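import Cfsg.Agent.H303.MaxTh
import Cfsg.Agent.H635.SporTh31
import Cfsg.Agent.H49.ThFiveDat

/-!
# The elements of order 13, 19, 31 of the Thompson group (helper651)

* `data31x` : `|C(R)| = 31`, `|N(R)| = 465` for `|R| = 31`;
* `count` : `|N(R)| * #{g | orderOf g = p} ≤ |G| * (p - 1)`;
* `n31`, `n19`, `nr31`, `c31`, `c19`.
-/

set_option autoImplicit false

namespace Cfsg.Agent.H651.Th5

open Subgroup Cfsg Cfsg.Agent.OrdDiv Cfsg.Agent.H940 Cfsg.Agent.H940.Eng Cfsg.Agent.H940.Eng.D
open Cfsg.Agent.H940.MaxCls Cfsg.Agent.H303.MaxTh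

/-- a power of `q` divides the index of the centralizer in the normalizer -/
theorem dvd_nc' {T : Type*} [Group T] [Finite T] {x h : T} {q k α : ℕ} (hq : q.Prime) (hα : h * x = x ^ α * h)
    (h1 : h ^ q ^ (k + 1) * x = x * h ^ q ^ (k + 1)) (h2 : h ^ q ^ k * x ≠ x * h ^ q ^ k) :
    q ^ (k + 1) * Nat.card (centralizer ((zpowers x : Subgroup T) : Set T)) ∣
      Nat.card (normalizer ((zpowers x : Subgroup T) : Set T)) := by
  have := Fact.mk hq
  have hN : h ∈ normalizer ((zpowers x : Subgroup T) : Set T) := by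
    apply mem_normalizer_fintype
    rintro _ ⟨i, rfl⟩
    change h * x ^ i * h⁻¹ ∈ zpowers x
    rw [← conj_zpow, hα, mul_inv_cancel_right]
    exact zpow_mem (pow_mem (mem_zpowers x) _) _
  set φ := (zpowers x).normalizerMonoidHom with hφ
  set y : normalizer ((zpowers x : Subgroup T) : Set T) := ⟨h, hN⟩ with hy
  have hcard : Nat.card (normalizer ((zpowers x : Subgroup T) : Set T)) = Nat.card φ.ker * Nat.card φ.range := by
    rw [← Subgroup.index_ker]
    exact (Subgroup.card_mul_index _).symm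
  have hker : Nat.card φ.ker = Nat.card (centralizer ((zpowers x : Subgroup T) : Set T)) := by
    rw [hφ, Subgroup.normalizerMonoidHom_ker]
    exact Nat.card_congr (Subgroup.subgroupOfEquivOfLe (centralizer_le_normalizer _)).toEquiv
  have ho : orderOf (φ y) = q ^ (k + 1) := by
    refine orderOf_eq_prime_pow ?_ ?_
    · intro h3
      rw [← map_pow, ← MonoidHom.mem_ker, hφ, Subgroup.normalizerMonoidHom_ker, mem_subgroupOf,
        mem_centralizer_iff] at h3
      exact h2 (h3 x (mem_zpowers x)).symm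
    · rw [← map_pow, ← MonoidHom.mem_ker, hφ, Subgroup.normalizerMonoidHom_ker, mem_subgroupOf]
      show h ^ q ^ (k + 1) ∈ centralizer ((zpowers x : Subgroup T) : Set T)
      rw [H904.SylOne.centralizer_zpowers_eq, mem_centralizer_singleton_iff]
      exact h1
  have h3 : q ^ (k + 1) ∣ Nat.card φ.range := by
    have h4 : orderOf (⟨φ y, y, rfl⟩ : φ.range) = q ^ (k + 1) := by rw [← ho, ← Subgroup.orderOf_coe]
    rw [← h4]
    exact orderOf_dvd_natCard _
  rw [hcard, hker, mul_comm (q ^ (k + 1))]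
  exact Nat.mul_dvd_mul_left _ h3

theorem sq31 : ¬ 31 ^ 2 ∣ Nat.card G := by rw [card]; decide +kernel

section

open Cfsg.Agent.H964.NoHall Cfsg.Agent.H635.Spor

/-- the action of the normalizer of a subgroup of order 31 has order divisible by 3 -/
theorem three {R : Subgroup G} (hR : Nat.card R = 31) :
    3 * Nat.card (centralizer (R : Set G)) ∣ Nat.card (normalizer (R : Set G)) := by
  have := fin
  have : Fact (Nat.Prime 31) := ⟨by norm_num⟩
  have hx : orderOf (thE wTz) = 31 := orderOf_wTz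
  have hR0 : Nat.card (zpowers (thE wTz)) = 31 := by rw [Nat.card_zpowers, hx]
  obtain ⟨K, e, s, -, -, -, -, hP⟩ := H904.SylOne.main (T := G) (p := 31) sq31 hx
  rw [(hP R hR).1, (hP R hR).2]
  obtain ⟨c1, c2⟩ := hP _ hR0
  rw [← c2, ← c1]
  have e1 : thE wTa * thE wTz * (thE wTa)⁻¹ = thE wTz ^ 25 := wTz_conj
  have h0 : thE wTa * thE wTz = thE wTz ^ 25 * thE wTa := by rw [← e1, inv_mul_cancel_right]
  have h3 : ∀ n : ℕ, thE wTa * thE wTz ^ n = thE wTz ^ (25 * n) * thE wTa := by
    intro n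
    apply mul_inv_eq_iff_eq_mul.1
    rw [← conj_pow, e1, ← pow_mul]
  refine dvd_nc' (h := thE wTa) (q := 3) (k := 0) (α := 25) Nat.prime_three h0 ?_ ?_
  · have h4 : thE wTa ^ 3 * thE wTz = thE wTz ^ 15625 * thE wTa ^ 3 := by
      rw [pow_succ, pow_succ, pow_one, mul_assoc, h0, ← mul_assoc, mul_assoc (thE wTa) (thE wTa), h3, ← mul_assoc, h3]
      simp only [mul_assoc]
    rw [zero_add, pow_one, h4]
    have h5 : thE wTz ^ 15625 = thE wTz := by
      have h6 : thE wTz ^ 31 = 1 := by rw [← hx, pow_orderOf_eq_one]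
      rw [show 15625 = 31 * 504 + 1 by norm_num, pow_succ, pow_mul, h6, one_pow, one_mul]
    rw [h5]
  · rw [pow_zero, pow_one, h0]
    intro h2
    have h5 : thE wTz ^ 24 = 1 := by
      have h6 := mul_right_cancel h2
      rw [pow_succ] at h6
      exact mul_eq_right.1 h6
    have h7 := orderOf_dvd_of_pow_eq_one h5
    rw [hx] at h7
    exact absurd h7 (by norm_num)

end

/-- the elements of order 5 of `N(R)` act on `C(R)` -/
theorem modEq_five {T : Type*} [Group T] [Finite T] {p : ℕ} (hp : p.Prime) {C : Subgroup T} {u : T} (hu : orderOf u = p)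
    (hC : ∀ c ∈ C, u * c * u⁻¹ ∈ C) :
    Nat.card C ≡ Nat.card ↥(C ⊓ centralizer ({u} : Set T)) [MOD p] := by
  classical
  have := Fact.mk hp
  have hn : ∀ (n : ℤ) (c : T), c ∈ C → u ^ n * c * (u ^ n)⁻¹ ∈ C := by
    have h1 : ∀ (n : ℕ) (c : T), c ∈ C → u ^ n * c * (u ^ n)⁻¹ ∈ C := by
      intro n
      induction n with
      | zero => intro c hc; simpa using hc
      | succ n ih =>
        intro c hc
        have h2 := hC _ (ih c hc)
        have h3 : u ^ (n + 1) * c * (u ^ (n + 1))⁻¹ = u * (u ^ n * c * (u ^ n)⁻¹) * u⁻¹ := by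
          rw [pow_succ']; group
        rw [h3]
        exact h2
    intro n c hc
    have h2 : ∃ m : ℕ, u ^ n = u ^ m := by
      have h3 : u ^ n ∈ zpowers u := zpow_mem (mem_zpowers u) n
      rw [mem_zpowers_iff_mem_range_orderOf] at h3
      obtain ⟨m, -, hm⟩ := Finset.mem_image.1 h3
      exact ⟨m, hm.symm⟩
    obtain ⟨m, hm⟩ := h2
    rw [hm]
    exact h1 m c hc
  let _ : MulAction (zpowers u) C :=
    { smul := fun a c => ⟨(a : T) * c * (a : T)⁻¹, by
        obtain ⟨n, hn'⟩ := a.2
        have hn'' : u ^ n = (a : T) := hn'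
        rw [← hn'']
        exact hn n c c.2⟩
      one_smul := fun c => Subtype.ext (by
        show (1 : T) * c * (1 : T)⁻¹ = c
        group)
      mul_smul := fun a b c => Subtype.ext (by
        show ((a * b : zpowers u) : T) * c * ((a * b : zpowers u) : T)⁻¹ = (a : T) * ((b : T) * c * (b : T)⁻¹) * (a : T)⁻¹
        rw [Subgroup.coe_mul]
        group) }
  have hpg : IsPGroup p (zpowers u) := IsPGroup.of_card (n := 1) (by rw [Nat.card_zpowers, hu, pow_one])
  have h1 := hpg.card_modEq_card_fixedPoints C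
  have e : Nat.card (MulAction.fixedPoints (zpowers u) C) = Nat.card ↥(C ⊓ centralizer ({u} : Set T)) := ?_
  · rw [e] at h1
    exact h1
  refine Nat.card_congr ⟨fun c => ⟨((c : C) : T), (c : C).2, ?_⟩, fun c => ⟨⟨c, c.2.1⟩, ?_⟩, fun _ => rfl, fun _ => rfl⟩
  · have h2 := congrArg (fun d : C => (d : T)) (c.2 ⟨u, mem_zpowers u⟩)
    have h3 : u * ((c : C) : T) * u⁻¹ = ((c : C) : T) := h2
    rw [mul_inv_eq_iff_eq_mul] at h3
    exact mem_centralizer_singleton_iff.2 h3.symm
  · rintro ⟨_, n, rfl⟩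
    apply Subtype.ext
    show u ^ n * (c : T) * (u ^ n)⁻¹ = c
    have h2 : Commute (c : T) u := mem_centralizer_singleton_iff.1 c.2.2
    rw [← (h2.zpow_right n).eq, mul_inv_cancel_right]

theorem card_cent_conj {T : Type*} [Group T] (g u : T) :
    Nat.card (centralizer ({u} : Set T)) = Nat.card (centralizer ({g * u * g⁻¹} : Set T)) := by
  refine Nat.card_congr ⟨fun c => ⟨g * c * g⁻¹, ?_⟩, fun c => ⟨g⁻¹ * c * g, ?_⟩, fun c => Subtype.ext ?_,
    fun c => Subtype.ext ?_⟩
  · have h1 : (c : T) * u = u * c := mem_centralizer_singleton_iff.1 c.2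
    rw [mem_centralizer_singleton_iff]
    calc g * (c : T) * g⁻¹ * (g * u * g⁻¹) = g * (c * u) * g⁻¹ := by group
      _ = g * u * g⁻¹ * (g * c * g⁻¹) := by rw [h1]; group
  · have h1 : (c : T) * (g * u * g⁻¹) = g * u * g⁻¹ * c := mem_centralizer_singleton_iff.1 c.2
    rw [mem_centralizer_singleton_iff]
    calc g⁻¹ * (c : T) * g * u = g⁻¹ * (c * (g * u * g⁻¹)) * g := by group
      _ = u * (g⁻¹ * (c : T) * g) := by rw [h1]; group
  · show g⁻¹ * (g * (c : T) * g⁻¹) * g = c
    group
  · show g * (g⁻¹ * (c : T) * g) * g⁻¹ = c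
    group

theorem card_cent5 {u : G} (hu : orderOf u = 5) : Nat.card (centralizer ({u} : Set G)) = 3000 := by
  obtain ⟨hfin, x', y', z, b, D⟩ := H49.ThFive.exists_dat
  obtain ⟨g, hg⟩ := D.all hu
  rw [card_cent_conj g, hg, D.card_C]

theorem data31x {R : Subgroup G} (hR : Nat.card R = 31) :
    Nat.card (centralizer (R : Set G)) = 31 ∧ Nat.card (normalizer (R : Set G)) = 465 := by
  have := fin
  have := simple
  have h := cnP_sound not_comm card (r := 31) (fC := [(3, 10), (31, 1)]) (by decide +kernel)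
    (by decide +kernel) (by decide +kernel) hR (cent31' hR)
    (P := fun c m => m % (3 * c) != 0 || (c == 31 && m == 465) || (c == 22599 && m == 677970))
    (by decide +kernel) hR
  rw [Bool.or_eq_true, Bool.or_eq_true, bne_iff_ne, Bool.and_eq_true, Bool.and_eq_true, beq_iff_eq, beq_iff_eq,
    beq_iff_eq, beq_iff_eq] at h
  rcases h with (h | h) | h
  · exact absurd (Nat.mod_eq_zero_of_dvd (three hR)) h
  · exact h
  · exfalso
    obtain ⟨h1, h2⟩ := h
    have f5 : Fact (Nat.Prime 5) := ⟨by norm_num⟩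
    obtain ⟨u, hu⟩ := exists_prime_orderOf_dvd_card' (G := normalizer (R : Set G)) 5 (by rw [h2]; norm_num)
    have hu' : orderOf (u : G) = 5 := by rw [Subgroup.orderOf_coe, hu]
    have h3 := modEq_five (by norm_num) hu' (C := centralizer (R : Set G)) fun c hc => centralizer_conj _ u.2 c hc
    have h4 : Nat.card ↥(centralizer (R : Set G) ⊓ centralizer ({(u : G)} : Set G)) ∣ 3 := by
      have h5 : Nat.card ↥(centralizer (R : Set G) ⊓ centralizer ({(u : G)} : Set G)) ∣ 22599 := by
        rw [← h1]; exact card_dvd_of_le inf_le_left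
      have h6 : Nat.card ↥(centralizer (R : Set G) ⊓ centralizer ({(u : G)} : Set G)) ∣ 3000 := by
        rw [← card_cent5 hu']; exact card_dvd_of_le inf_le_right
      have h7 := Nat.dvd_gcd h5 h6
      have h8 : Nat.gcd 22599 3000 = 3 := by decide +kernel
      rwa [h8] at h7
    rw [h1] at h3
    rcases (Nat.dvd_prime Nat.prime_three).1 h4 with h5 | h5
    · rw [h5] at h3
      exact absurd h3 (by decide)
    · rw [h5] at h3
      exact absurd h3 (by decide)

/-- the number of elements of order `p` -/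
theorem count {T : Type*} [Group T] [Finite T] {p : ℕ} [hp : Fact p.Prime] (h2 : ¬ p ^ 2 ∣ Nat.card T) {R : Subgroup T}
    (hR : Nat.card R = p) :
    Nat.card (normalizer (R : Set T)) * Nat.card {g : T // orderOf g = p} ≤ Nat.card T * (p - 1) := by
  classical
  have := Fintype.ofFinite T
  have hc := Finset.card_mul_le_card_mul (s := (Finset.univ.filter fun g : T => orderOf g = p))
    (t := (Finset.univ : Finset T)) (fun g a => a⁻¹ * g * a ∈ R) (m := Nat.card (normalizer (R : Set T))) (n := p - 1)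
    ?_ ?_
  · rw [Finset.card_univ, ← Nat.card_eq_fintype_card] at hc
    have h3 : Nat.card {g : T // orderOf g = p} = (Finset.univ.filter fun g : T => orderOf g = p).card := by
      rw [Nat.card_eq_fintype_card, Fintype.card_subtype]
    rw [h3, mul_comm]
    exact hc
  · intro g hg
    have hg' : orderOf g = p := (Finset.mem_filter.1 hg).2
    obtain ⟨S, hS⟩ := H904.SylOne.exists_sylow hR h2
    obtain ⟨S', hS'⟩ := H904.SylOne.exists_sylow (P := zpowers g) (by rw [Nat.card_zpowers, hg']) h2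
    obtain ⟨b, hb⟩ := MulAction.exists_smul_eq T S S'
    have hb' : b⁻¹ * g * b ∈ R := by
      have h5 : g ∈ (S' : Subgroup T) := by rw [hS']; exact mem_zpowers g
      rw [← hb, Sylow.smul_def, Sylow.pointwise_smul_def, Subgroup.mem_pointwise_smul_iff_inv_smul_mem] at h5
      rw [← hS]
      have h6 : (MulAut.conj b)⁻¹ • g = b⁻¹ * g * b := by
        rw [MulAut.smul_def, ← map_inv, MulAut.conj_apply, inv_inv]
      rw [h6] at h5
      exact h5
    rw [Nat.card_eq_fintype_card, ← Finset.card_univ]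
    refine Finset.card_le_card_of_injOn (fun n => b * (n : T)) ?_ ?_
    · intro n _
      have h7 : b * (n : T) ∈ Finset.bipartiteAbove (fun g a => a⁻¹ * g * a ∈ R) (Finset.univ : Finset T) g := by
        rw [Finset.mem_bipartiteAbove]
        refine ⟨Finset.mem_univ _, ?_⟩
        have h8 : (b * (n : T))⁻¹ * g * (b * (n : T)) = (n : T)⁻¹ * (b⁻¹ * g * b) * n := by group
        rw [h8]
        have h9 := (mem_normalizer_iff.1 (inv_mem n.2) (b⁻¹ * g * b)).1 hb'
        rwa [inv_inv] at h9
      exact h7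
    · intro n _ m _ hnm
      exact Subtype.ext (mul_left_cancel hnm)
  · intro a _
    have h5 : (Finset.bipartiteBelow (fun g a => a⁻¹ * g * a ∈ R) (Finset.univ.filter fun g : T => orderOf g = p) a).card ≤
        (Finset.univ.filter fun r : T => r ∈ R ∧ r ≠ 1).card := by
      refine Finset.card_le_card_of_injOn (fun g => a⁻¹ * g * a) ?_ ?_
      · intro g hg
        have hg' := (Finset.mem_bipartiteBelow _).1 (Finset.mem_coe.1 hg)
        rw [Finset.mem_filter] at hg'
        refine Finset.mem_coe.2 (Finset.mem_filter.2 ⟨Finset.mem_univ _, hg'.2, ?_⟩)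
        intro h6'
        have h6 : a⁻¹ * g * a = 1 := h6'
        have h7 : g = 1 := by
          have h8 : g = a * (a⁻¹ * g * a) * a⁻¹ := by group
          rw [h8, h6]; group
        have h8 := hg'.1.2
        rw [h7, orderOf_one] at h8
        exact hp.out.one_lt.ne h8
      · intro g _ g' _ h6
        exact mul_left_cancel (mul_right_cancel h6)
    refine h5.trans (le_of_eq ?_)
    have h6 : (Finset.univ.filter fun r : T => r ∈ R ∧ r ≠ 1) = (Finset.univ.filter fun r : T => r ∈ R).erase 1 := by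
      ext r
      simp only [Finset.mem_filter, Finset.mem_univ, true_and, Finset.mem_erase]
      exact and_comm
    rw [h6, Finset.card_erase_of_mem (Finset.mem_filter.2 ⟨Finset.mem_univ _, R.one_mem⟩), ← hR,
      Nat.card_eq_fintype_card, Fintype.card_subtype]

/-- `N(y)` for `y` of order 31 -/
theorem data31y {y : G} (hy : orderOf y = 31) : Nat.card (centralizer ({y} : Set G)) = 31 ∧
    Nat.card (normalizer ((zpowers y : Subgroup G) : Set G)) = 465 := by
  have h := data31x (R := zpowers y) (by rw [Nat.card_zpowers, hy])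
  rwa [H904.SylOne.centralizer_zpowers_eq] at h

theorem data19y {y : G} (hy : orderOf y = 19) : Nat.card (centralizer ({y} : Set G)) = 19 ∧
    Nat.card (normalizer ((zpowers y : Subgroup G) : Set G)) = 342 := by
  have h := data19 (R := zpowers y) (by rw [Nat.card_zpowers, hy])
  rwa [H904.SylOne.centralizer_zpowers_eq] at h

theorem data13y {y : G} (hy : orderOf y = 13) : Nat.card (centralizer ({y} : Set G)) ∣ 85293 := by
  have h := (data13 (R := zpowers y) (by rw [Nat.card_zpowers, hy])).1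
  rwa [H904.SylOne.centralizer_zpowers_eq] at h

/-! ### the fields -/

theorem cardTh : Nat.card Cfsg.Spor.Th = 90745943887872000 := card.trans (by decide)

theorem c19 : ∀ g : Cfsg.Spor.Th, orderOf g = 19 → ¬ 3 ∣ Nat.card (Subgroup.centralizer {g}) := by
  intro g hg
  rw [(data19y hg).1]
  norm_num

theorem c31 : ∀ g : Cfsg.Spor.Th, orderOf g = 31 → ¬ 3 ∣ Nat.card (Subgroup.centralizer {g}) := by
  intro g hg
  rw [(data31y hg).1]
  norm_num

/-- elements of order 31 are not real -/
theorem nr31 : ∀ y g : Cfsg.Spor.Th, orderOf y = 31 → g * y * g⁻¹ ≠ y⁻¹ := by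
  have := fin
  intro y g hy hg
  have hN : g ∈ normalizer ((zpowers y : Subgroup G) : Set G) := by
    apply mem_normalizer_fintype
    rintro _ ⟨i, rfl⟩
    change g * y ^ i * g⁻¹ ∈ zpowers y
    rw [← conj_zpow, hg]
    exact zpow_mem (inv_mem (mem_zpowers y)) _
  have h1 : orderOf g ∣ 465 := by
    rw [← (data31y hy).2]
    have h2 := orderOf_dvd_natCard (⟨g, hN⟩ : normalizer ((zpowers y : Subgroup G) : Set G))
    rwa [Subgroup.orderOf_mk] at h2
  have h2 : g ^ 465 = 1 := orderOf_dvd_iff_pow_eq_one.1 h1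
  have h3 : g ^ 2 * y * (g ^ 2)⁻¹ = y := by
    have h0 : g * y⁻¹ * g⁻¹ = (g * y * g⁻¹)⁻¹ := by group
    calc g ^ 2 * y * (g ^ 2)⁻¹ = g * (g * y * g⁻¹) * g⁻¹ := by rw [pow_two]; group
      _ = y := by rw [hg, h0, hg, inv_inv]
  have h4 : Commute (g ^ 2) y := by
    rw [mul_inv_eq_iff_eq_mul] at h3
    exact h3
  have h5 : Commute g y := by
    have h6 : g ^ 466 = g := by
      rw [show 466 = 465 + 1 by norm_num, pow_succ, h2, one_mul]
    have h7 : Commute ((g ^ 2) ^ 233) y := h4.pow_left 233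
    rwa [← pow_mul, h6] at h7
  have h6 : y = y⁻¹ := by
    rw [← hg, h5.eq, mul_inv_cancel_right]
  have h7 : y ^ 2 = 1 := by
    rw [pow_two]
    nth_rewrite 2 [h6]
    exact mul_inv_cancel y
  have h8 := orderOf_dvd_of_pow_eq_one h7
  rw [hy] at h8
  exact absurd h8 (by norm_num)

theorem exists31 : ∃ y : Cfsg.Spor.Th, orderOf y = 31 := ⟨_, Cfsg.Agent.H635.Spor.orderOf_wTz⟩
theorem exists19 : ∃ y : Cfsg.Spor.Th, orderOf y = 19 := ⟨_, Cfsg.Agent.H964.NoHall.thW_order⟩

theorem n31 : 31 * Nat.card {g : Cfsg.Spor.Th // orderOf g = 31} ≤ 2 * Nat.card Cfsg.Spor.Th := by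
  have := fin
  have : Fact (Nat.Prime 31) := ⟨by norm_num⟩
  obtain ⟨y, hy⟩ := exists31
  have h := count (T := G) (p := 31) sq31 (R := zpowers y) (by rw [Nat.card_zpowers, hy])
  rw [(data31y hy).2] at h
  change 465 * Nat.card {g : Cfsg.Spor.Th // orderOf g = 31} ≤ Nat.card Cfsg.Spor.Th * (31 - 1) at h
  omega

theorem n19 : 19 * Nat.card {g : Cfsg.Spor.Th // orderOf g = 19} ≤ Nat.card Cfsg.Spor.Th := by
  have := fin
  have : Fact (Nat.Prime 19) := ⟨by norm_num⟩
  obtain ⟨y, hy⟩ := exists19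
  have h := count (T := G) (p := 19) sq19 (R := zpowers y) (by rw [Nat.card_zpowers, hy])
  rw [(data19y hy).2] at h
  change 342 * Nat.card {g : Cfsg.Spor.Th // orderOf g = 19} ≤ Nat.card Cfsg.Spor.Th * (19 - 1) at h
  omega

end Cfsg.Agent.H651.Th5
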