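import Cfsg.Agent.H651.Th5.Big
import Cfsg.Agent.H871.Th7.Main

/-!
# The orders of the 3-regular elements of the Thompson group (helper651)

`ord` : the field `ord` of `H853.ThC.ThFacts` for `Spor.Th`, from: no elements of order 16, 25, 40.
-/

set_option autoImplicit false

namespace Cfsg.Agent.H651.Th5

open Subgroup Cfsg

theorem dvd_cent {T : Type*} [Group T] [Finite T] {g : T} {p : ℕ} (hp : p ∣ orderOf g) :
    ∃ y : T, orderOf y = p ∧ orderOf g ∣ Nat.card (centralizer ({y} : Set T)) := by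
  refine ⟨g ^ (orderOf g / p), orderOf_pow_orderOf_div (orderOf_pos g).ne' hp, ?_⟩
  have h1 : g ∈ centralizer ({g ^ (orderOf g / p)} : Set T) :=
    mem_centralizer_singleton_iff.2 (pow_mul_comm' g _).symm
  have h2 := orderOf_dvd_natCard (⟨g, h1⟩ : centralizer ({g ^ (orderOf g / p)} : Set T))
  rwa [Subgroup.orderOf_mk] at h2

theorem not_dvd_of_no {T : Type*} [Group T] [Finite T] {n : ℕ} (h : ∀ g : T, orderOf g ≠ n) (g : T) : ¬ n ∣ orderOf g :=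
  fun hn => h _ (orderOf_pow_orderOf_div (orderOf_pos g).ne' hn)

theorem coprime_three {n : ℕ} (h : ¬ 3 ∣ n) (k : ℕ) : Nat.Coprime n (3 ^ k) :=
  Nat.Coprime.pow_right k ((Nat.prime_three.coprime_iff_not_dvd.2 h).symm)

theorem arith {n : ℕ} (h3 : ¬ 3 ∣ n) (g16 : ¬ 16 ∣ n) (g25 : ¬ 25 ∣ n) (g40 : ¬ 40 ∣ n) (g49 : ¬ 49 ∣ n)
    (g56 : ¬ 56 ∣ n) (h0 : n ∣ 90745943887872000) (c13 : 13 ∣ n → n ∣ 13) (c19 : 19 ∣ n → n ∣ 19)
    (c31 : 31 ∣ n → n ∣ 31) (c7 : 7 ∣ n → n ∣ 392) (c5 : 5 ∣ n → n ∣ 1000) :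
    n ∈ ({1, 2, 4, 5, 7, 8, 10, 13, 14, 19, 20, 28, 31} : Finset ℕ) := by
  by_cases d13 : 13 ∣ n
  · rcases (Nat.dvd_prime (by norm_num)).1 (c13 d13) with rfl | rfl <;> simp
  by_cases d19 : 19 ∣ n
  · rcases (Nat.dvd_prime (by norm_num)).1 (c19 d19) with rfl | rfl <;> simp
  by_cases d31 : 31 ∣ n
  · rcases (Nat.dvd_prime (by norm_num)).1 (c31 d31) with rfl | rfl <;> simp
  by_cases d7 : 7 ∣ n
  · have h1 : n ∈ Nat.divisors 392 := Nat.mem_divisors.2 ⟨c7 d7, by norm_num⟩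
    have h2 : ∀ m ∈ Nat.divisors 392, ¬ 49 ∣ m → ¬ 56 ∣ m → m ∈ ({1, 2, 4, 5, 7, 8, 10, 13, 14, 19, 20, 28, 31} : Finset ℕ) := by
      decide +kernel
    exact h2 n h1 g49 g56
  by_cases d5 : 5 ∣ n
  · have h1 : n ∈ Nat.divisors 1000 := Nat.mem_divisors.2 ⟨c5 d5, by norm_num⟩
    have h2 : ∀ m ∈ Nat.divisors 1000, ¬ 25 ∣ m → ¬ 40 ∣ m → m ∈ ({1, 2, 4, 5, 7, 8, 10, 13, 14, 19, 20, 28, 31} : Finset ℕ) := by
      decide +kernel
    exact h2 n h1 g25 g40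
  have hc : ∀ {p : ℕ}, p.Prime → ¬ p ∣ n → Nat.Coprime n p := fun hp h => ((hp.coprime_iff_not_dvd).2 h).symm
  have k3 : Nat.Coprime n (3 ^ 10) := coprime_three h3 10
  have k5 : Nat.Coprime n (5 ^ 3) := Nat.Coprime.pow_right 3 (hc (by norm_num) d5)
  have k7 : Nat.Coprime n (7 ^ 2) := Nat.Coprime.pow_right 2 (hc (by norm_num) d7)
  have k13 : Nat.Coprime n 13 := hc (by norm_num) d13
  have k19 : Nat.Coprime n 19 := hc (by norm_num) d19
  have k31 : Nat.Coprime n 31 := hc (by norm_num) d31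
  have e : 90745943887872000 = 2 ^ 15 * (3 ^ 10 * (5 ^ 3 * (7 ^ 2 * (13 * (19 * 31))))) := by norm_num
  rw [e] at h0
  have h1 : n ∣ 2 ^ 15 := Nat.Coprime.dvd_of_dvd_mul_right
    (k3.mul_right (k5.mul_right (k7.mul_right (k13.mul_right (k19.mul_right k31))))) h0
  obtain ⟨k, hk, rfl⟩ := (Nat.dvd_prime_pow Nat.prime_two).1 h1
  have h2 : k < 4 := by
    by_contra h
    exact g16 (by rw [show 16 = 2 ^ 4 by norm_num]; exact pow_dvd_pow 2 (by omega))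
  interval_cases k <;> simp

/-- **the orders of the 3-regular elements** -/
theorem ord (h16 : ∀ g : Cfsg.Spor.Th, orderOf g ≠ 16) (h25 : ∀ g : Cfsg.Spor.Th, orderOf g ≠ 25)
    (h40 : ∀ g : Cfsg.Spor.Th, orderOf g ≠ 40) : ∀ g : Cfsg.Spor.Th, ¬ 3 ∣ orderOf g →
    orderOf g ∈ ({1, 2, 4, 5, 7, 8, 10, 13, 14, 19, 20, 28, 31} : Finset ℕ) := by
  have hfin := H303.MaxTh.fin
  intro g h3
  have g16 := not_dvd_of_no h16 g
  have g25 := not_dvd_of_no h25 g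
  have g40 := not_dvd_of_no h40 g
  have g49 := not_dvd_of_no H871.Th7.no49 g
  have g56 := not_dvd_of_no H871.Th7.no56 g
  have h0 : orderOf g ∣ 90745943887872000 := by rw [← cardTh]; exact orderOf_dvd_natCard g
  have c13 : 13 ∣ orderOf g → orderOf g ∣ 13 := by
    intro h
    obtain ⟨y, hy, hd⟩ := dvd_cent h
    exact (coprime_three h3 8).dvd_of_dvd_mul_right (hd.trans ((data13y hy).trans (by norm_num)))
  have c19 : 19 ∣ orderOf g → orderOf g ∣ 19 := by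
    intro h
    obtain ⟨y, hy, hd⟩ := dvd_cent h
    rwa [(data19y hy).1] at hd
  have c31 : 31 ∣ orderOf g → orderOf g ∣ 31 := by
    intro h
    obtain ⟨y, hy, hd⟩ := dvd_cent h
    rwa [(data31y hy).1] at hd
  have c7 : 7 ∣ orderOf g → orderOf g ∣ 392 := by
    intro h
    obtain ⟨y, hy, hd⟩ := dvd_cent h
    rw [H871.Th7.card7 y hy] at hd
    exact (coprime_three h3 1).dvd_of_dvd_mul_right (hd.trans (by norm_num))
  have c5 : 5 ∣ orderOf g → orderOf g ∣ 1000 := by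
    intro h
    obtain ⟨y, hy, hd⟩ := dvd_cent h
    have h5 : Nat.card (centralizer ({y} : Set Cfsg.Spor.Th)) = 3000 := card_cent5 hy
    rw [h5] at hd
    exact (coprime_three h3 1).dvd_of_dvd_mul_right (hd.trans (by norm_num))
  exact arith h3 g16 g25 g40 g49 g56 h0 c13 c19 c31 c7 c5

end Cfsg.Agent.H651.Th5
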